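import Mathlib

set_option autoImplicit false
universe u
open scoped TensorProduct

namespace Groth.Agent.CotInjLib

theorem injective_of_smoothAt_minimalPrimes {A B : Type u} [CommRing A] [CommRing B] [Algebra A B]
    [IsReduced B]
    (hsm : ∀ p : PrimeSpectrum B, p.asIdeal ∈ minimalPrimes B → Algebra.IsSmoothAt A p.asIdeal)
    (P : Algebra.Extension.{u} A B) (hsq : P.ker ^ 2 = ⊥) [Module.Projective B P.Cotangent] :
    Function.Injective P.cotangentComplex := by
  rw [injective_iff_map_eq_zero]
  intro x hx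
  obtain ⟨⟨x, hxk⟩, rfl⟩ := Algebra.Extension.Cotangent.mk_surjective x
  rw [Algebra.Extension.cotangentComplex_mk] at hx
  -- ω lies in ker • Ω
  have hω : KaehlerDifferential.D A P.Ring x ∈ (P.ker • ⊤ : Submodule P.Ring Ω[P.Ring⁄A]) := by
    let π : P.Ring →ₗ[P.Ring] B := Algebra.linearMap P.Ring B
    have hex := rTensor_exact Ω[P.Ring⁄A] (LinearMap.exact_subtype_ker_map π) P.algebraMap_surjective
    have h1 : π.rTensor Ω[P.Ring⁄A] ((1 : P.Ring) ⊗ₜ[P.Ring] KaehlerDifferential.D A P.Ring x) = 0 := by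
      rw [LinearMap.rTensor_tmul, show π 1 = 1 from map_one (algebraMap P.Ring B)]
      exact hx
    obtain ⟨w, hw⟩ := (hex _).mp h1
    have h2 := congrArg (TensorProduct.lid P.Ring Ω[P.Ring⁄A]) hw
    rw [TensorProduct.lid_tmul, one_smul] at h2
    rw [← h2]
    clear hw h2
    induction w using TensorProduct.induction_on with
    | zero => simp
    | tmul a ω =>
      rw [LinearMap.rTensor_tmul, TensorProduct.lid_tmul]
      exact Submodule.smul_mem_smul a.2 trivial
    | add a b ha hb => rw [map_add, map_add]; exact add_mem ha hb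
  obtain ⟨s, hs⟩ := Module.projective_def'.mp ‹Module.Projective B P.Cotangent›
  set M := Algebra.Extension.Cotangent.mk (⟨x, hxk⟩ : P.ker) with hM
  suffices hcoord : ∀ i, s M i = 0 by
    have := LinearMap.congr_fun hs M
    rw [LinearMap.comp_apply, show s M = 0 from Finsupp.ext hcoord, map_zero] at this
    exact this.symm
  intro i
  refine IsReduced.eq_zero _ ?_
  rw [← mem_nilradical, nilradical, ← Ideal.sInf_minimalPrimes, Ideal.mem_sInf]
  intro p hp
  haveI hpp : p.IsPrime := Ideal.minimalPrimes_isPrime hp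
  haveI := hsm ⟨p, hpp⟩ hp
  let q : Ideal P.Ring := p.comap (algebraMap P.Ring B)
  haveI : q.IsPrime := Ideal.IsPrime.comap _
  let Rq := Localization.AtPrime q
  let Bp := Localization.AtPrime p
  let g : Rq →ₐ[A] Bp :=
    { Localization.localRingHom q p (algebraMap P.Ring B) rfl with
      commutes' := fun a => by
        change Localization.localRingHom q p (algebraMap P.Ring B) rfl (algebraMap A Rq a) = _
        rw [IsScalarTower.algebraMap_apply A P.Ring Rq, Localization.localRingHom_to_map,
          ← IsScalarTower.algebraMap_apply A P.Ring B, ← IsScalarTower.algebraMap_apply A B Bp] }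
  have hg_to : ∀ r, g (algebraMap P.Ring Rq r) = algebraMap B Bp (algebraMap P.Ring B r) :=
    fun r => Localization.localRingHom_to_map q p (algebraMap P.Ring B) rfl r
  have hgsurj : Function.Surjective g := by
    intro y
    obtain ⟨b, ⟨c, hc⟩, rfl⟩ := IsLocalization.exists_mk'_eq p.primeCompl y
    obtain ⟨b, rfl⟩ := P.algebraMap_surjective b
    obtain ⟨c, rfl⟩ := P.algebraMap_surjective c
    exact ⟨IsLocalization.mk' Rq b (⟨c, hc⟩ : q.primeCompl), Localization.localRingHom_mk' q p (algebraMap P.Ring B) rfl _ _⟩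
  have hker : RingHom.ker (g : Rq →+* Bp) = P.ker.map (algebraMap P.Ring Rq) := by
    refine le_antisymm (fun z hz => ?_) (Ideal.map_le_iff_le_comap.mpr fun a ha => ?_)
    · obtain ⟨a, ⟨c, hc⟩, rfl⟩ := IsLocalization.exists_mk'_eq q.primeCompl z
      have hz' : IsLocalization.mk' Bp (algebraMap P.Ring B a) (⟨algebraMap P.Ring B c, hc⟩ : p.primeCompl) = 0 :=
        (Localization.localRingHom_mk' q p (algebraMap P.Ring B) rfl a ⟨c, hc⟩).symm.trans hz
      obtain ⟨⟨m, hm⟩, hmb⟩ := (IsLocalization.mk'_eq_zero_iff _ _).mp hz'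
      obtain ⟨m, rfl⟩ := P.algebraMap_surjective m
      rw [IsLocalization.mk'_eq_mul_mk'_one]
      refine Ideal.mul_mem_right _ _ ?_
      have hu : IsUnit (algebraMap P.Ring Rq m) := IsLocalization.map_units Rq (⟨m, hm⟩ : q.primeCompl)
      rw [← Ideal.unit_mul_mem_iff_mem _ hu, ← map_mul]
      exact Ideal.mem_map_of_mem _ (RingHom.mem_ker.mpr (by rw [map_mul]; exact hmb))
    · rw [Ideal.mem_comap, RingHom.mem_ker]
      change g (algebraMap P.Ring Rq a) = 0
      rw [hg_to, show algebraMap P.Ring B a = 0 from ha, map_zero]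
  have hK2 : RingHom.ker (g : Rq →+* Bp) ^ 2 = ⊥ := by
    rw [hker, ← Ideal.map_pow, hsq, Ideal.map_bot]
  let σ : Bp →ₐ[A] Rq :=
    Algebra.FormallySmooth.liftOfSurjective (AlgHom.id A Bp) g hgsurj ⟨2, hK2⟩
  have hσ : ∀ y, g (σ y) = y := fun y => Algebra.FormallySmooth.liftOfSurjective_apply _ g hgsurj ⟨2, hK2⟩ y
  let τ : P.Ring →ₐ[A] Rq :=
    σ.comp ((IsScalarTower.toAlgHom A B Bp).comp (IsScalarTower.toAlgHom A P.Ring B))
  let d : P.Ring →ₗ[A] Rq := (IsScalarTower.toAlgHom A P.Ring Rq).toLinearMap - τ.toLinearMap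
  have hdker : ∀ r, d r ∈ RingHom.ker (g : Rq →+* Bp) := fun r => by
    rw [RingHom.mem_ker]
    change g (algebraMap P.Ring Rq r - σ (algebraMap B Bp (algebraMap P.Ring B r))) = 0
    rw [map_sub, hσ, hg_to, sub_self]
  have hmul0 : ∀ u ∈ RingHom.ker (g : Rq →+* Bp), ∀ v ∈ RingHom.ker (g : Rq →+* Bp), u * v = 0 := fun u hu v hv => by
    have := Ideal.mul_mem_mul hu hv
    rwa [← pow_two, hK2, Ideal.mem_bot] at this
  let D : Derivation A P.Ring Rq := Derivation.mk' d (fun a b => by
    have h0 := hmul0 _ (hdker a) _ (hdker b)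
    simp only [Algebra.smul_def]
    change algebraMap P.Ring Rq (a * b) - τ (a * b) = algebraMap P.Ring Rq a * (algebraMap P.Ring Rq b - τ b) +
      algebraMap P.Ring Rq b * (algebraMap P.Ring Rq a - τ a)
    change (algebraMap P.Ring Rq a - τ a) * (algebraMap P.Ring Rq b - τ b) = 0 at h0
    rw [map_mul, map_mul]
    linear_combination -h0)
  let l := D.liftKaehlerDifferential
  have hlK : ∀ ω, l ω ∈ RingHom.ker (g : Rq →+* Bp) := by
    intro ω
    have hω' : ω ∈ Submodule.span P.Ring (Set.range (KaehlerDifferential.D A P.Ring)) := by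
      rw [KaehlerDifferential.span_range_derivation]; trivial
    induction hω' using Submodule.span_induction with
    | mem y hy =>
      obtain ⟨r, rfl⟩ := hy
      rw [Derivation.liftKaehlerDifferential_comp_D]
      exact hdker r
    | zero => rw [map_zero]; exact zero_mem _
    | add a b _ _ ha hb => rw [map_add]; exact add_mem ha hb
    | smul c a _ ha =>
      rw [map_smul, Algebra.smul_def]
      exact Ideal.mul_mem_left _ _ ha
  have hl0 : l (KaehlerDifferential.D A P.Ring x) = 0 := by
    refine Submodule.smul_induction_on hω (fun a ha n _ => ?_) (fun a b ha hb => by rw [map_add, ha, hb, add_zero])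
    rw [map_smul, Algebra.smul_def]
    refine hmul0 _ ?_ _ (hlK n)
    rw [hker]
    exact Ideal.mem_map_of_mem _ ha
  rw [Derivation.liftKaehlerDifferential_comp_D] at hl0
  change algebraMap P.Ring Rq x - σ (algebraMap B Bp (algebraMap P.Ring B x)) = 0 at hl0
  rw [show algebraMap P.Ring B x = 0 from hxk, map_zero, map_zero, sub_zero] at hl0
  obtain ⟨⟨m, hm⟩, hmx⟩ := (IsLocalization.map_eq_zero_iff q.primeCompl Rq x).mp hl0
  have hsm0 : algebraMap P.Ring B m • M = 0 := by
    rw [algebraMap_smul, hM, ← map_smul,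
      show m • (⟨x, hxk⟩ : P.ker) = 0 from Subtype.ext hmx, map_zero]
  have := congrArg (fun v => s v i) hsm0
  simp only [map_smul, Finsupp.smul_apply, smul_eq_mul, map_zero, Finsupp.zero_apply] at this
  exact (hpp.mem_or_mem (show algebraMap P.Ring B m * s M i ∈ p by rw [this]; exact zero_mem _)).resolve_left hm

end Groth.Agent.CotInjLib
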